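import Groth.Agent.L06.CondSheaf
import Groth.Prelude.Def_TwSh

/-!
Being twisted may be tested on pullbacks along jointly surjective flat families.
-/

set_option autoImplicit false
set_option linter.style.haveILetI false
set_option backward.isDefEq.respectTransparency.types false
set_option backward.isDefEq.respectTransparency false

universe w v₂ u₂ u

open CategoryTheory CategoryTheory.Limits AlgebraicGeometry Opposite TopologicalSpace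

noncomputable section

namespace Groth.L15.TwLocal

open TwSh

variable {S : Scheme.{u}} {𝒳 : BasedCategory.{v₂, u₂} (Over S)} {A : (Over S)ᵒᵖ ⥤ GrpCat.{u}}

theorem map_inert_app (F : StMod.Mod 𝒳) {ξ' ξ : 𝒳.obj} (φ : ξ' ⟶ ξ) (α : Gerb.AutO ξ) (α' : Gerb.AutO ξ')
    (h : α'.hom.1 ≫ φ = φ ≫ α.hom.1) (U : (StMod.sch 𝒳 ξ).Opens) (s : Γ(F.obj ξ, U)) :
    (F.map φ rfl).app U ((inert F ξ α).app U s) =
      (inert F ξ' α').app (StMod.bmap 𝒳 φ ⁻¹ᵁ U) ((F.map φ rfl).app U s) := by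
  rw [inert_app_apply, inert_app_apply]
  have e₁ := congrArg (fun f => (ConcreteCategory.hom f) s)
    (StMod.Mod.map_comp_app F φ α.hom.1 rfl (bmap_autO ξ α) U)
  have e₂ := congrArg (fun f => (ConcreteCategory.hom f) s)
    (StMod.Mod.map_comp_app F α'.hom.1 φ (bmap_autO ξ' α') rfl U)
  simp only at e₁ e₂
  have key : ∀ {φ₁ φ₂ : ξ' ⟶ ξ} (_ : φ₁ = φ₂) {g₁ g₂ : StMod.sch 𝒳 ξ' ⟶ StMod.sch 𝒳 ξ}
      (h₁ : StMod.bmap 𝒳 φ₁ = g₁) (h₂ : StMod.bmap 𝒳 φ₂ = g₂),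
      HEq ((F.map φ₁ h₁).app U s) ((F.map φ₂ h₂).app U s) := by
    rintro φ₁ φ₂ rfl g₁ g₂ rfl rfl; rfl
  have t := key h.symm (g₁ := StMod.bmap 𝒳 φ ≫ 𝟙 _) (g₂ := 𝟙 _ ≫ StMod.bmap 𝒳 φ)
    (by rw [StMod.bmap_comp, bmap_autO]) (by rw [StMod.bmap_comp, bmap_autO])
  exact eq_of_heq (((heq_of_eq e₁.symm).trans t).trans (heq_of_eq e₂))

theorem charUnit_map (χ : A ⟶ GmPsh S) {ξ' ξ : 𝒳.obj} (φ : ξ' ⟶ ξ) (a : A.obj (op (𝒳.p.obj ξ))) :
    charUnit χ ξ' (A.map (𝒳.p.map φ).op a) = Units.map (StMod.bmap 𝒳 φ).appTop.hom.toMonoidHom (charUnit χ ξ a) := by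
  have e := congrArg (fun f => (ConcreteCategory.hom f) a) (χ.naturality (𝒳.p.map φ).op)
  exact e

theorem app_resTop {X Y : Scheme.{u}} (g : X ⟶ Y) (U : Y.Opens) (r : Γ(Y, ⊤)) :
    g.app U (resTop Y U r) = resTop X (g ⁻¹ᵁ U) (g.appTop r) := by
  exact congrArg (fun f => (ConcreteCategory.hom f) r) (g.naturality (homOfLE (le_top : U ≤ ⊤)).op)

/-- Twistedness at `ξ` follows from twistedness at the members of a jointly surjective flat family of lifts. -/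
theorem inert_eq_of_cover (F : StMod.QCoh 𝒳) (ι : BandHom 𝒳 A) (χ : A ⟶ GmPsh S) (d : ℤ) (ξ : 𝒳.obj)
    {I : Type u} (ξ' : I → 𝒳.obj) (φ : ∀ i, ξ' i ⟶ ξ) (hfl : ∀ i, Flat (StMod.bmap 𝒳 (φ i)))
    (hs : ∀ x : StMod.sch 𝒳 ξ, ∃ i, x ∈ Set.range (StMod.bmap 𝒳 (φ i)))
    (htw : ∀ i (a : A.obj (op (𝒳.p.obj (ξ' i)))) (U : (StMod.sch 𝒳 (ξ' i)).Opens) (s : Γ(F.obj.obj (ξ' i), U)),
      (inert F.obj (ξ' i) (ι.hom (ξ' i) a)).app U s =
        resTop (StMod.sch 𝒳 (ξ' i)) U ((charUnit χ (ξ' i) a ^ d)⁻¹).val • s)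
    (a : A.obj (op (𝒳.p.obj ξ))) :
    inert F.obj ξ (ι.hom ξ a) = scalarEnd (F.obj.obj ξ) ((charUnit χ ξ a ^ d)⁻¹).val := by
  haveI : Coh.IsQCoh (F.obj.obj ξ) := F.property.2 ξ
  rw [← sub_eq_zero]
  set f := inert F.obj ξ (ι.hom ξ a) - scalarEnd (F.obj.obj ξ) ((charUnit χ ξ a ^ d)⁻¹).val with hf
  haveI := hfl
  refine Groth.L06.CondSheaf.eq_zero_of_pullback (fun i => StMod.bmap 𝒳 (φ i)) hs f fun i => ?_
  haveI := F.property.1 (φ i) (g := StMod.bmap 𝒳 (φ i)) rfl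
  have h0 : f ≫ F.obj.map (φ i) rfl = 0 := by
    rw [hf, Preadditive.sub_comp, sub_eq_zero]
    apply Scheme.Modules.hom_ext
    intro U
    ext s
    show (F.obj.map (φ i) rfl).app U ((inert F.obj ξ (ι.hom ξ a)).app U s) =
      (F.obj.map (φ i) rfl).app U ((scalarEnd (F.obj.obj ξ) ((charUnit χ ξ a ^ d)⁻¹).val).app U s)
    rw [map_inert_app F.obj (φ i) (ι.hom ξ a) (ι.hom (ξ' i) (A.map (𝒳.p.map (φ i)).op a)) (ι.natural (φ i) a),
      htw, charUnit_map, scalarEnd_app_apply, Scheme.Modules.Hom.app_smul]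
    show _ = (StMod.bmap 𝒳 (φ i)).app U (resTop _ U _) • (show Γ(F.obj.obj (ξ' i), _) from (F.obj.map (φ i) rfl).app U s)
    rw [app_resTop, ← map_zpow, ← map_inv]
    rfl
  rw [← cancel_mono (((Scheme.Modules.pullbackPushforwardAdjunction _).homEquiv _ _).symm
    (F.obj.map (φ i) rfl)), zero_comp, ← Adjunction.homEquiv_naturality_left_symm, h0]
  simp [Adjunction.homEquiv_counit]

/-- Twistedness of the restriction over an object read at the underlying object. -/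
theorem twisted_at_of_fib {𝒴 : BasedCategory.{w, u₂} (Over S)} (π : 𝒳 ⥤ᵇ 𝒴) (η : 𝒴.obj) (F : StMod.Mod 𝒳)
    (ι : BandHom 𝒳 A) (hι : ∀ (ξ : 𝒳.obj) (a : A.obj (op (𝒳.p.obj ξ))), π.map (ι.hom ξ a).hom.1 = 𝟙 _)
    (χ : A ⟶ GmPsh S) (d : ℤ)
    (h : IsTwisted (StMod.Mod.comap (StMod.fibFst π η) F) (BandHom.fib π η ι hι) χ d)
    (x : (StMod.fibCat π η).obj) (a : A.obj (op (𝒳.p.obj x.left))) (U : (StMod.sch 𝒳 x.left).Opens)
    (s : Γ(F.obj x.left, U)) :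
    (inert F x.left (ι.hom x.left a)).app U s =
      resTop (StMod.sch 𝒳 x.left) U ((charUnit χ x.left a ^ d)⁻¹).val • s := by
  have key := h x a U s
  rw [show (BandHom.fib π η ι hι).hom x a = autOFib π η x (ι.hom x.left a) (hι x.left a) from rfl,
    inert_comap_fibFst] at key
  exact key

theorem map_eq {𝒴 : BasedCategory.{w, u₂} (Over S)} (π : 𝒳 ⥤ᵇ 𝒴) {ξ' ξ : 𝒳.obj} (φ : ξ' ⟶ ξ) :
    𝒴.p.map (π.map φ) = eqToHom (π.w_obj ξ') ≫ 𝒳.p.map φ ≫ eqToHom (π.w_obj ξ).symm :=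
  IsHomLift.fac' 𝒴.p (𝒳.p.map φ) (π.map φ)

theorem mem_range_eqToHom_comp {X X' Y : Scheme.{u}} (e : X' = X) (g : X ⟶ Y) {x : Y}
    (h : x ∈ Set.range g) : x ∈ Set.range (eqToHom e ≫ g) := by
  subst e; simpa using h

end Groth.L15.TwLocal
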